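import Cfsg.Agent.Lib.Comp.Golay

set_option maxRecDepth 100000

namespace Cfsg.Lib.Comp.M12

universe u

noncomputable def nets_1 : Net :=
 (Net.cons 12 (nat_lit 0x400)
 (Net.cons 6 (nat_lit 0x2)
 (Net.cons 3 (nat_lit 0x2)
 (Net.cons 1 (nat_lit 0x209001)
 (Net.cons 1 (nat_lit 0x10412)
 (Net.cons 1 (nat_lit 0x8000)
 (Net.cons 3 (nat_lit 0x104042)
 (Net.cons 6 (nat_lit 0x2902b)
 (Net.cons 12 (nat_lit 0x52)
 Net.nil)))))))))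

noncomputable def nets_2 : Net :=
 (Net.cons 12 (nat_lit 0xb00)
 (Net.cons 6 (nat_lit 0x1c008)
 (Net.cons 3 (nat_lit 0x6004)
 (Net.cons 1 (nat_lit 0x200000)
 (Net.cons 1 (nat_lit 0x82490)
 (Net.cons 1 (nat_lit 0x1048)
 (Net.cons 3 (nat_lit 0xc50c4)
 (Net.cons 6 (nat_lit 0x801c)
 (Net.cons 12 (nat_lit 0x8d)
 Net.nil)))))))))

noncomputable def nets_64 : Net :=
 (Net.cons 12 (nat_lit 0xb04)
 (Net.cons 6 (nat_lit 0x24008)
 (Net.cons 3 (nat_lit 0x182100)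
 (Net.cons 1 (nat_lit 0x8048)
 (Net.cons 1 (nat_lit 0x402090)
 (Net.cons 1 (nat_lit 0x200008)
 (Net.cons 3 (nat_lit 0x41042)
 (Net.cons 6 (nat_lit 0x30028)
 (Net.cons 12 (nat_lit 0x61e)
 Net.nil)))))))))

noncomputable def nets_66 : Net :=
 (Net.cons 12 (nat_lit 0x96c)
 (Net.cons 6 (nat_lit 0xc020)
 (Net.cons 3 (nat_lit 0x104004)
 (Net.cons 1 (nat_lit 0x201008)
 (Net.cons 1 (nat_lit 0x490490)
 (Net.cons 1 (nat_lit 0x200200)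
 (Net.cons 3 (nat_lit 0x1c4082)
 (Net.cons 6 (nat_lit 0x2d00a)
 (Net.cons 12 (nat_lit 0x58c)
 Net.nil)))))))))

noncomputable def nets_68 : Net :=
 (Net.cons 12 (nat_lit 0x8ce)
 (Net.cons 6 (nat_lit 0x26020)
 (Net.cons 3 (nat_lit 0x184182)
 (Net.cons 1 (nat_lit 0x209208)
 (Net.cons 1 (nat_lit 0x402410)
 (Net.cons 3 (nat_lit 0xc1104)
 (Net.cons 6 (nat_lit 0xf03c)
 (Net.cons 12 (nat_lit 0x59a)
 Net.nil))))))))

noncomputable def nets_70 : Net :=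
 (Net.cons 12 (nat_lit 0x824)
 (Net.cons 6 (nat_lit 0x24018)
 (Net.cons 3 (nat_lit 0x102)
 (Net.cons 1 (nat_lit 0x248208)
 (Net.cons 1 (nat_lit 0x90402)
 (Net.cons 1 (nat_lit 0x48200)
 (Net.cons 3 (nat_lit 0x2102)
 (Net.cons 6 (nat_lit 0x24038)
 (Net.cons 12 (nat_lit 0x824)
 Net.nil)))))))))

noncomputable def nets_71 : Net :=
 (Net.cons 12 (nat_lit 0x5c4)
 (Net.cons 6 (nat_lit 0x38016)
 (Net.cons 3 (nat_lit 0x180006)
 (Net.cons 1 (nat_lit 0x240208)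
 (Net.cons 1 (nat_lit 0x412010)
 (Net.cons 1 (nat_lit 0x200000)
 (Net.cons 3 (nat_lit 0x102046)
 (Net.cons 6 (nat_lit 0x701a)
 (Net.cons 12 (nat_lit 0xf80)
 Net.nil)))))))))

noncomputable def nets_73 : Net :=
 (Net.cons 12 (nat_lit 0xa48)
 (Net.cons 6 (nat_lit 0x12010)
 (Net.cons 3 (nat_lit 0x180004)
 (Net.cons 1 (nat_lit 0x8)
 (Net.cons 1 (nat_lit 0x410490)
 (Net.cons 1 (nat_lit 0x200008)
 (Net.cons 3 (nat_lit 0x101184)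
 (Net.cons 6 (nat_lit 0x1301c)
 (Net.cons 12 (nat_lit 0x558)
 Net.nil)))))))))

noncomputable def nets_75 : Net :=
 (Net.cons 12 (nat_lit 0x6c4)
 (Net.cons 6 (nat_lit 0x1203c)
 (Net.cons 3 (nat_lit 0x100006)
 (Net.cons 1 (nat_lit 0x40208)
 (Net.cons 1 (nat_lit 0x410012)
 (Net.cons 1 (nat_lit 0x200008)
 (Net.cons 3 (nat_lit 0x102046)
 (Net.cons 6 (nat_lit 0x13030)
 (Net.cons 12 (nat_lit 0xdd4)
 Net.nil)))))))))

noncomputable def nets_77 : Net :=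
 (Net.cons 12 (nat_lit 0xe14)
 (Net.cons 6 (nat_lit 0x28000)
 (Net.cons 3 (nat_lit 0x180184)
 (Net.cons 1 (nat_lit 0x200208)
 (Net.cons 1 (nat_lit 0x80490)
 (Net.cons 1 (nat_lit 0x208)
 (Net.cons 3 (nat_lit 0x183184)
 (Net.cons 6 (nat_lit 0x2800c)
 (Net.cons 12 (nat_lit 0xe54)
 Net.nil)))))))))

noncomputable def nets : List Net := (apd [Net.nil,
 nets_1,
 nets_2,
 Net.rev nets_1,
 Net.rev nets_2,
 Net.nil,
 Net.nil,
 Net.nil,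
 Net.nil,
 Net.nil,
 Net.nil,
 Net.nil,
 Net.nil,
 Net.nil,
 Net.nil,
 Net.nil,
 Net.nil,
 Net.nil,
 Net.nil,
 Net.nil,
 Net.nil,
 Net.nil,
 Net.nil,
 Net.nil,
 Net.nil,
 Net.nil,
 Net.nil,
 Net.nil,
 Net.nil,
 Net.nil,
 Net.nil,
 Net.nil,
 Net.nil,
 Net.nil,
 Net.nil,
 Net.nil,
 Net.nil,
 Net.nil,
 Net.nil,
 Net.nil]
 [Net.nil,
 Net.nil,
 Net.nil,
 Net.nil,
 Net.nil,
 Net.nil,
 Net.nil,
 Net.nil,
 Net.nil,
 Net.nil,
 Net.nil,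
 Net.nil,
 Net.nil,
 Net.nil,
 Net.nil,
 Net.nil,
 Net.nil,
 Net.nil,
 Net.nil,
 Net.nil,
 Net.nil,
 Net.nil,
 Net.nil,
 Net.nil,
 nets_64,
 Net.rev nets_64,
 nets_66,
 Net.rev nets_66,
 nets_68,
 Net.rev nets_68,
 nets_70,
 nets_71,
 Net.rev nets_71,
 nets_73,
 Net.rev nets_73,
 nets_75,
 Net.rev nets_75,
 nets_77])

theorem nets_ok : NetsOK 24 nets := netsOK_of (by decide +kernel)

def L : List ℕ := [1,2]

noncomputable def slp : List (ℕ × List ℕ) := [(3,[1,1,1,1,1,1,1,1,1,1]),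
 (4,[2,2,2,2,2,2,2,2,2,2]),
 (64,[2,1,4,3,4]),
 (65,[2,1,2,3,4]),
 (66,[1,2,1]),
 (67,[3,4,3]),
 (68,[67,67,64,64]),
 (69,[65,65,66,66]),
 (70,[66,64,66,64]),
 (71,[69,69,70]),
 (72,[70,68,68]),
 (73,[68,68,68,68,70,68]),
 (74,[69,70,69,69,69,69]),
 (75,[72,74,72,72]),
 (76,[71,71,73,71]),
 (77,[74,72,74])]

theorem slp_ok : slpB 24 5 nets slp L = true := by decide +kernel

theorem mem_all {x : ℕ} (h : x ∈ L ++ slp.map (·.1)) : gp nets x ∈ cl (gp nets) L :=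
  cl_eq_of_slpB nets_ok (by norm_num) slp_ok ▸ mem_cl h

-- chain [([64,65,66,67,68,69,70,71,72,73,74,75,76,77],[],0,0,12),([68,69,70,71,72,73,74,75,76,77],[],5,0,12),([71,72,73,74,75,76,77],[],1,0,11),([75,76,77],[],2,0,10),([],[],4,0,6)]

open Cfsg.Lib.Golay in
theorem perm : Nonempty (Spor.M12 ≃* cl (gp nets) L) := by
  rw [← gen_gM12]
  exact equiv_of_coding gc (fun g hg => (inH_gM12 g hg).1) nets_ok (by decide +kernel) (by decide +kernel)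

theorem card : Nat.card (cl (gp nets) L) = 95040 := by
  obtain ⟨e⟩ := perm
  rw [← Nat.card_congr e.toEquiv, Golay.card_M12]

end Cfsg.Lib.Comp.M12
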