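import Cfsg.Agent.Lib.Comp.M12.Perm
import Cfsg.Agent.Lib.Comp.Out

set_option maxRecDepth 100000

namespace Cfsg.Lib.Comp.M12

universe u

noncomputable def on_1 : Net :=
 (Net.cons 6 (nat_lit 0xc000)
 (Net.cons 3 (nat_lit 0x80000)
 (Net.cons 1 (nat_lit 0x240248)
 (Net.cons 1 (nat_lit 0x410082)
 (Net.cons 1 (nat_lit 0x208041)
 (Net.cons 3 (nat_lit 0x1001c1)
 (Net.cons 6 (nat_lit 0x12001)
 Net.nil)))))))

noncomputable def on_2 : Net :=
 (Net.cons 6 (nat_lit 0x2001a)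
 (Net.cons 3 (nat_lit 0x4006)
 (Net.cons 1 (nat_lit 0x41)
 (Net.cons 1 (nat_lit 0x482090)
 (Net.cons 1 (nat_lit 0x200000)
 (Net.cons 3 (nat_lit 0x1060c6)
 (Net.cons 6 (nat_lit 0x1c004)
 Net.nil)))))))

noncomputable def on_3 : Net :=
 (Net.cons 6 (nat_lit 0x18)
 (Net.cons 3 (nat_lit 0x184000)
 (Net.cons 1 (nat_lit 0x208240)
 (Net.cons 1 (nat_lit 0x492000)
 (Net.cons 1 (nat_lit 0x208000)
 (Net.cons 3 (nat_lit 0x106003)
 (Net.cons 6 (nat_lit 0x3303c)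
 Net.nil)))))))

noncomputable def on_4 : Net :=
 (Net.cons 6 (nat_lit 0xa020)
 (Net.cons 3 (nat_lit 0x100100)
 (Net.cons 1 (nat_lit 0x1048)
 (Net.cons 1 (nat_lit 0x482082)
 (Net.cons 1 (nat_lit 0x201041)
 (Net.cons 3 (nat_lit 0x84041)
 (Net.cons 6 (nat_lit 0x20000)
 Net.nil)))))))

noncomputable def on_5 : Net :=
 (Net.cons 6 (nat_lit 0x28020)
 (Net.cons 3 (nat_lit 0x6082)
 (Net.cons 1 (nat_lit 0x208048)
 (Net.cons 1 (nat_lit 0x92490)
 (Net.cons 1 (nat_lit 0x1040)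
 (Net.cons 3 (nat_lit 0x31c4)
 (Net.cons 6 (nat_lit 0xa01c)
 Net.nil)))))))

noncomputable def on_7 : Net :=
 (Net.cons 6 (nat_lit 0x800a)
 (Net.cons 3 (nat_lit 0x84002)
 (Net.cons 1 (nat_lit 0x41201)
 (Net.cons 1 (nat_lit 0x492412)
 (Net.cons 1 (nat_lit 0x1209)
 (Net.cons 3 (nat_lit 0x1050c7)
 (Net.cons 6 (nat_lit 0x9038)
 (Net.cons 12 (nat_lit 0xfff)
 Net.nil))))))))

noncomputable def on_10 : Net :=
 (Net.cons 6 (nat_lit 0x18008)
 (Net.cons 3 (nat_lit 0x100)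
 (Net.cons 1 (nat_lit 0x201240)
 (Net.cons 1 (nat_lit 0x90412)
 (Net.cons 1 (nat_lit 0x200)
 (Net.cons 3 (nat_lit 0x6142)
 (Net.cons 6 (nat_lit 0x2b032)
 Net.nil)))))))

noncomputable def on_12 : Net :=
 (Net.cons 6 (nat_lit 0x26018)
 (Net.cons 3 (nat_lit 0x84004)
 (Net.cons 1 (nat_lit 0x40048)
 (Net.cons 1 (nat_lit 0x12490)
 (Net.cons 1 (nat_lit 0x8000)
 (Net.cons 3 (nat_lit 0x1841c6)
 (Net.cons 6 (nat_lit 0x2b032)
 Net.nil)))))))

noncomputable def on_14 : Net :=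
 (Net.cons 6 (nat_lit 0x28032)
 (Net.cons 3 (nat_lit 0x104186)
 (Net.cons 1 (nat_lit 0x9048)
 (Net.cons 1 (nat_lit 0x490090)
 (Net.cons 1 (nat_lit 0x208000)
 (Net.cons 3 (nat_lit 0x182080)
 (Net.cons 6 (nat_lit 0x2d01e)
 Net.nil)))))))

noncomputable def on_16 : Net :=
 (Net.cons 6 (nat_lit 0x16016)
 (Net.cons 3 (nat_lit 0x80084)
 (Net.cons 1 (nat_lit 0x41040)
 (Net.cons 1 (nat_lit 0x2002)
 (Net.cons 1 (nat_lit 0x1000)
 (Net.cons 3 (nat_lit 0xc31c6)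
 (Net.cons 6 (nat_lit 0x1d012)
 Net.nil)))))))

noncomputable def on_18 : Net :=
 (Net.cons 6 (nat_lit 0xe000)
 (Net.cons 3 (nat_lit 0x4100)
 (Net.cons 1 (nat_lit 0x200248)
 (Net.cons 1 (nat_lit 0x482400)
 (Net.cons 1 (nat_lit 0x240000)
 (Net.cons 3 (nat_lit 0x1000c0)
 (Net.cons 6 (nat_lit 0x31010)
 Net.nil)))))))

noncomputable def on_20 : Net :=
 (Net.cons 6 (nat_lit 0x26002)
 (Net.cons 3 (nat_lit 0x6)
 (Net.cons 1 (nat_lit 0x1008)
 (Net.cons 1 (nat_lit 0x492402)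
 (Net.cons 1 (nat_lit 0x48200)
 (Net.cons 3 (nat_lit 0x47044)
 (Net.cons 6 (nat_lit 0x602a)
 Net.nil)))))))

noncomputable def on_22 : Net :=
 (Net.cons 6 (nat_lit 0x1002c)
 (Net.cons 3 (nat_lit 0x100002)
 (Net.cons 1 (nat_lit 0x48)
 (Net.cons 1 (nat_lit 0x492412)
 (Net.cons 1 (nat_lit 0x200008)
 (Net.cons 3 (nat_lit 0x141086)
 (Net.cons 6 (nat_lit 0x3001c)
 Net.nil)))))))

noncomputable def on_24 : Net :=
 (Net.cons 6 (nat_lit 0x30)
 (Net.cons 3 (nat_lit 0x82100)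
 (Net.cons 1 (nat_lit 0x48000)
 (Net.cons 1 (nat_lit 0x492490)
 (Net.cons 1 (nat_lit 0x201040)
 (Net.cons 3 (nat_lit 0x1c51c0)
 (Net.cons 6 (nat_lit 0x20000)
 Net.nil)))))))

noncomputable def on_26 : Net :=
 (Net.cons 6 (nat_lit 0x14016)
 (Net.cons 3 (nat_lit 0x106004)
 (Net.cons 1 (nat_lit 0x201048)
 (Net.cons 1 (nat_lit 0x482410)
 (Net.cons 1 (nat_lit 0x40008)
 (Net.cons 3 (nat_lit 0x1c1083)
 (Net.cons 6 (nat_lit 0x1603a)
 Net.nil)))))))

noncomputable def on : List Net := [Net.nil,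
 on_1,
 on_2,
 on_3,
 on_4,
 on_5,
 Net.rev on_5,
 on_7,
 Net.rev on_1,
 Net.rev on_2,
 on_10,
 Net.rev on_10,
 on_12,
 Net.rev on_12,
 on_14,
 Net.rev on_14,
 on_16,
 Net.rev on_16,
 on_18,
 Net.rev on_18,
 on_20,
 Net.rev on_20,
 on_22,
 Net.rev on_22,
 on_24,
 Net.rev on_24,
 on_26]

theorem on_ok : NetsOK 24 on := netsOK_of (by decide +kernel)

noncomputable def opi : Net :=
 (Net.cons 12 (nat_lit 0xf8e)
 (Net.cons 6 (nat_lit 0x2001c)
 (Net.cons 3 (nat_lit 0x86084)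
 (Net.cons 1 (nat_lit 0x40208)
 (Net.cons 1 (nat_lit 0x482402)
 (Net.cons 1 (nat_lit 0x41001)
 (Net.cons 3 (nat_lit 0x1c6002)
 (Net.cons 6 (nat_lit 0x1100a)
 (Net.cons 12 (nat_lit 0xfac)
 Net.nil)))))))))

theorem opi_ok : opi.ok 24 := ok_of_netOK (by decide +kernel)

def oL : List ℕ := [1,2,3,4,5,6,8,9,10,11,12,13,14,15,16,17,18,19,20,21,22,23,24,25,26]

noncomputable def oC : List Lev := [([10,11,12,13,14,15,16,17,18,19,20,21,22,23,24,25],[1,3,10,2,14],0,0,12),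
 ([14,15,16,17,18,19,20,21,22,23,24,25],[10,12,10,12,10],1,1,11),
 ([18,19,20,21,22,23,24,25],[14,16,14,14,14],2,2,10),
 ([22,23,24,25],[18,18,24,18,22],3,3,9),
 ([],[22,24,22,22],4,4,8)]

noncomputable def oD : List (ℕ × List ℕ) := [(8,[1,1,1,1,1,1,1,1,1,1]),
 (9,[2,2,2,2]),
 (10,[2,3,1,9]),
 (11,[2,8,3,9]),
 (12,[1,2,3]),
 (13,[3,9,8]),
 (14,[13,13,13,10]),
 (15,[11,12,12,12]),
 (16,[12,11,11]),
 (17,[10,10,13]),
 (18,[16,14,16]),
 (19,[17,15,17]),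
 (20,[14,14,17,15]),
 (21,[14,16,15,15]),
 (22,[18,18,20]),
 (23,[21,19,19]),
 (24,[20,18]),
 (25,[19,21]),
 (4,[22,25,1]),
 (5,[22,22,18,21,15,15,10,13]),
 (6,[24,14,19,11,15]),
 (26,[22,22,18,23,14,14,10,12,3])]

theorem o_le : cl (gp on) oL ≤ cl (gp on) [1,2,3] := by
  rw [← cl_eq_of_slpB (k := 5) (D := oD) (L := [1,2,3]) on_ok (by norm_num) (by decide +kernel)]
  exact cl_mono (sub_of_subB (by decide +kernel))

theorem o_m1 : gp on 1 ∈ (cl (gp nets) L).map (MulAut.conj opi.perm).toMonoidHom :=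
  mem_conj_of_eqB (k := 5) (w := [77,71,73,68,64,69]) nets_ok (by norm_num) opi_ok (on_ok 1) (fun _ => mem_all) (by decide +kernel)

theorem o_m2 : gp on 2 ∈ (cl (gp nets) L).map (MulAut.conj opi.perm).toMonoidHom :=
  mem_conj_of_eqB (k := 5) (w := [76,72,64,75]) nets_ok (by norm_num) opi_ok (on_ok 2) (fun _ => mem_all) (by decide +kernel)

theorem o_m3 : gp on 3 ∈ (cl (gp nets) L).map (MulAut.conj opi.perm).toMonoidHom :=
  mem_conj_of_eqB (k := 5) (w := [76,71,73,68,71,1,64]) nets_ok (by norm_num) opi_ok (on_ok 3) (fun _ => mem_all) (by decide +kernel)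

theorem o_conj : cl (gp on) oL ≤ (cl (gp nets) L).map (MulAut.conj opi.perm).toMonoidHom :=
  o_le.trans (cl_le.2 (by simp only [List.forall_mem_cons]; exact ⟨o_m1, o_m2, o_m3, by simp⟩))

theorem o_ch : Nat.beq (chainB on oC oL) 95040 = true := by decide +kernel

theorem o_ex : Exact on oC oL := by
  have := nets_ok.finite L
  exact exact_of_beq ((card_le_of_conj o_conj).trans card.le) o_ch

noncomputable def tb : ℕ → ℕ → ℕ := tbx 24 (tbk 5 4 prs5 on 32)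

theorem tb_ok : TbA on tb := tbA_tbx on_ok (tbk_eq tr5 (by norm_num) (by norm_num) (by norm_num) on_ok)

noncomputable def par0 : ℕ := (nat_lit 0x5c10c205340934a200)

noncomputable def par1 : ℕ := (nat_lit 0xc35029628d38c2c0)

noncomputable def par2 : ℕ := (nat_lit 0x44f41058e40e540)

noncomputable def par3 : ℕ := (nat_lit 0x154d4656517480)

noncomputable def par4 : ℕ := (nat_lit 0x6196195965c0)

noncomputable def oP : List (ℕ → ℕ) := [(fun p => look2 par0 6 256 (Nat.sub p 0)),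
 (fun p => look2 par1 6 256 (Nat.sub p 1)),
 (fun p => look2 par2 6 256 (Nat.sub p 2)),
 (fun p => look2 par3 6 256 (Nat.sub p 3)),
 (fun p => look2 par4 6 256 (Nat.sub p 4))]

noncomputable def cxM : ℕ := (nat_lit 0x20)

theorem cx_b : centB on tb oC oL 1 0 0 12 [0,1,2,3,4] [] [1] [1,1,1,1,1,1,1,1,1,1] cxM = true := by decide +kernel

noncomputable def cxF (q : ℕ) : Bool := sift tb (fun e => witer tb [1] e q) [] oC oP oL [0,1,2,3,4] []

theorem cxA_0 : AllM cxM 256 cxF :=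
  AllM.step (lo := 0) (m := 1) (AllM.zero _ _) (by decide +kernel)

theorem cx_c : ∀ c ∈ cl (gp on) oL, Commute c (gp on 1) → c ∈ cl (gp on) [1] := fun _ hc hz =>
  Exact.cent on_ok tb_ok o_ex cx_b cxA_0 (by norm_num) (by norm_num) hc hz

noncomputable def cyM : ℕ := (nat_lit 0x80)

theorem cy_b : centB on tb oC oL 4 0 0 12 [0,1,2,3,4] [] [4,26] [26,4,4,4,4] cyM = true := by decide +kernel

noncomputable def cyF (q : ℕ) : Bool := sift tb (fun e => witer tb [4] e q) [] oC oP oL [0,1,2,3,4] []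

theorem cyA_0 : AllM cyM 256 cyF :=
  AllM.step (lo := 0) (m := 1) (AllM.zero _ _) (by decide +kernel)

theorem cy_c : ∀ c ∈ cl (gp on) oL, Commute c (gp on 4) → c ∈ cl (gp on) [4,26] := fun _ hc hz =>
  Exact.cent on_ok tb_ok o_ex cy_b cyA_0 (by norm_num) (by norm_num) hc hz

noncomputable def parO : ℕ := (nat_lit 0x68069a01a68411a680)

noncomputable def oO : ℕ := (nat_lit 0xb7f)

noncomputable def oR : List (List ℕ × ℕ) := [([3],1),
 ([1,1,3,2],5)]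

theorem o_b : outB on tb (bases oC) oL 11 3 1 1 0 oR [4,26] oO = true := by decide +kernel

noncomputable def oF (q : ℕ) : Bool := walk tb (fun p => look2 parO 6 256 (Nat.sub p 0)) (msk [4,26]) 0 (fun ws => allL [1,2] (candB tb oR [(1,0),
 (2,0)] 1 q ws)) 1000 q []

theorem oA_0 : AllM oO 256 oF :=
  AllM.step (lo := 0) (m := 1) (AllM.zero _ _) (by decide +kernel)

theorem o_phi {Γ : Type*} [Group Γ] (e : Γ ≃* cl (gp nets) L) : ∃ φ : Γ →* Equiv.Perm ℕ, Function.Injective φ ∧ φ.range = cl (gp on) oL := by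
  have := nets_ok.finite L
  exact relabel e _ o_conj (card.trans_le (lb_of_chainB on_ok o_ch))

theorem out_le {Γ : Type*} [Group Γ] (e : Γ ≃* cl (gp nets) L) : Finite (Out Γ) ∧ Nat.card (Out Γ) ≤ 2 := by
  obtain ⟨φ, h1, h2⟩ := o_phi e
  exact card_out_le on_ok tb_ok o_ex o_b cy_b cy_c (by norm_num) h1 h2 o_le (m := 8640) (J := 5) (by norm_num)
    (((Nat.card_congr e.toEquiv).trans card).trans (by norm_num)) (by norm_num) (by norm_num) cx_c (by decide +kernel) (by norm_num) oA_0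

noncomputable def oG (q : ℕ) : Bool := walk tb (fun p => look2 parO 6 256 (Nat.sub p 0)) (msk [4,26]) 0 (fun ws =>
  cnd (Nat.beq (wap tb [1] (wap tb (5 :: rva ws [6]) 11)) (wap tb (5 :: rva ws [6]) (wap tb [1,1] 11)))
    (cnd (Nat.beq (wap tb [3] (wap tb (5 :: rva ws [6]) 11)) (wap tb (5 :: rva ws [6]) (wap tb [3,5,6] 11))) false true) true) 1000 q []

theorem oB_0 : AllM oO 256 oG :=
  AllM.step (lo := 0) (m := 1) (AllM.zero _ _) (by decide +kernel)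

theorem o_rho : ∀ r ∈ [(1, [1,1]), (2, [2]), (3, [3,5,6])], gp on 7 * gp on r.1 * (gp on 7)⁻¹ = ev (gp on) r.2 := by
  intro r hr
  have := eq_of_eqB (k := 5) on_ok (by norm_num) (allL_iff.1 (show allL [(1, [1,1]), (2, [2]), (3, [3,5,6])]
    (fun r => eqB 24 5 0 5 on [7, r.1] 0 (apd r.2 [7])) = true by decide +kernel) r hr)
  rw [mul_inv_eq_iff_eq_mul]
  simpa [apd_eq, ev] using this

theorem out_eq {Γ : Type*} [Group Γ] (e : Γ ≃* cl (gp nets) L) : Nat.card (Out Γ) = 2 := by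
  obtain ⟨φ, h1, h2⟩ := o_phi e
  have a1 := o_rho _ List.mem_cons_self
  have a2 := o_rho _ (List.mem_cons_of_mem _ List.mem_cons_self)
  have a3 := o_rho _ (List.mem_cons_of_mem _ (List.mem_cons_of_mem _ List.mem_cons_self))
  obtain ⟨σ, hσ⟩ := aut_of_norm on_ok h1 h2 o_le (ρ := gp on 7) (by
    simp only [List.forall_mem_cons]
    rw [a1, a2, a3]
    refine ⟨?_, ?_, ?_, by simp⟩ <;> exact ev_mem fun x hx => mem_cl (sub_of_subB (by decide +kernel) x hx))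
  exact card_out_eq_two (out_le e) ⟨σ, not_inner on_ok tb_ok o_ex o_b cy_b cy_c (by norm_num) h2 (by norm_num) oB_0 σ
    (fun g h => by rw [hσ, h, a1]) (fun g h => by rw [hσ, h, a2, ev_single]) (fun g h => by rw [hσ, h, a3])⟩

end Cfsg.Lib.Comp.M12
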